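import Mathlib
import Cfsg.Agent.Solvable.Nilpotent

/-!
# `p`-groups with a unique subgroup of order `p`

Such a group is cyclic, or `p = 2` and it is a generalised quaternion group.
-/

set_option autoImplicit false

namespace CfsgLib.TwoGroupsQ

variable {G : Type*} [Group G] {p : ℕ}

/-- All solutions of `x ^ p = 1` lie in one cyclic subgroup of order `p`. -/
def HasUniqueOrderP (G : Type*) [Group G] (p : ℕ) : Prop :=
  ∀ x y : G, x ^ p = 1 → y ^ p = 1 → y ≠ 1 → x ∈ Subgroup.zpowers y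

theorem HasUniqueOrderP.subgroup (hu : HasUniqueOrderP G p) (H : Subgroup G) :
    HasUniqueOrderP H p := by
  intro x y hx hy hy1
  obtain ⟨i, hi⟩ := hu x.1 y.1 (congrArg Subtype.val hx) (congrArg Subtype.val hy)
    (fun e => hy1 (Subtype.ext e))
  exact ⟨i, Subtype.ext (by simpa using hi)⟩

theorem hasUniqueOrderP_of_subgroups [hp : Fact p.Prime]
    (h : ∀ H K : Subgroup G, Nat.card H = p → Nat.card K = p → H = K) : HasUniqueOrderP G p := by
  intro x y hx hy hy1
  by_cases hx1 : x = 1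
  · exact hx1 ▸ Subgroup.one_mem _
  have hox : orderOf x = p := orderOf_eq_prime hx hx1
  have hoy : orderOf y = p := orderOf_eq_prime hy hy1
  rw [← h (Subgroup.zpowers x) (Subgroup.zpowers y) (by rw [Nat.card_zpowers, hox])
    (by rw [Nat.card_zpowers, hoy])]
  exact Subgroup.mem_zpowers x

theorem hasUniqueOrderP_two (h : ∀ x y : G, x ^ 2 = 1 → x ≠ 1 → y ^ 2 = 1 → y ≠ 1 → x = y) :
    HasUniqueOrderP G 2 := by
  intro x y hx hy hy1
  by_cases hx1 : x = 1
  · exact hx1 ▸ Subgroup.one_mem _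
  · exact h x y hx hx1 hy hy1 ▸ Subgroup.mem_zpowers x

section Abelian

/-- An abelian `p`-group with a unique subgroup of order `p` is cyclic. -/
theorem isCyclic_of_comm [Finite G] [hp : Fact p.Prime] (hG : IsPGroup p G)
    (hu : HasUniqueOrderP G p) (hc : ∀ a b : G, Commute a b) : IsCyclic G := by
  classical
  let _ : CommGroup G := { (inferInstance : Group G) with mul_comm := fun a b => hc a b }
  have := Fintype.ofFinite G
  have key : ∀ k : ℕ, Nat.card (powMonoidHom (p ^ k) : G →* G).ker ≤ p ^ k := by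
    intro k
    induction k with
    | zero =>
      have : (powMonoidHom (p ^ 0) : G →* G).ker = ⊥ := by ext x; simp
      rw [this, Subgroup.card_bot, pow_zero]
    | succ k ih =>
      let f : (powMonoidHom (p ^ (k + 1)) : G →* G).ker →*
          (powMonoidHom (p ^ k) : G →* G).ker :=
        MonoidHom.codRestrict ((powMonoidHom p).comp (Subgroup.subtype _)) _ (fun x => by
          have hx := x.2
          rw [MonoidHom.mem_ker, powMonoidHom_apply] at hx ⊢
          rw [MonoidHom.comp_apply, powMonoidHom_apply, ← pow_mul, ← pow_succ']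
          exact hx)
      have hker : Nat.card f.ker ≤ p := by
        by_cases ht : ∀ x : f.ker, x = 1
        · have : Subsingleton f.ker := ⟨fun a b => (ht a).trans (ht b).symm⟩
          rw [Nat.card_of_subsingleton (1 : f.ker)]
          exact hp.out.one_le
        push Not at ht
        obtain ⟨y, hy⟩ := ht
        have hmem : ∀ x : f.ker, (x.1.1 : G) ^ p = 1 := fun x =>
          congrArg Subtype.val (MonoidHom.mem_ker.1 x.2)
        have hy1 : (y.1.1 : G) ≠ 1 := fun e => hy (Subtype.ext (Subtype.ext e))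
        refine le_trans (Nat.card_le_card_of_injective
          (fun x : f.ker => (⟨x.1.1, hu _ _ (hmem x) (hmem y) hy1⟩ : Subgroup.zpowers (y.1.1 : G)))
          (fun a b e => Subtype.ext (Subtype.ext (congrArg Subtype.val e :)))) ?_
        rw [Nat.card_zpowers, orderOf_eq_prime (hmem y) hy1]
      calc Nat.card (powMonoidHom (p ^ (k + 1)) : G →* G).ker
          = Nat.card f.range * Nat.card f.ker := by
            rw [← Subgroup.index_ker, Subgroup.index_mul_card]
        _ ≤ p ^ k * p := Nat.mul_le_mul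
            ((Subgroup.card_le_card_group f.range).trans ih) hker
        _ = p ^ (k + 1) := by rw [pow_succ]
  refine isCyclic_of_card_pow_eq_one_le fun n hn => ?_
  obtain ⟨m, hm⟩ := hG.exists_card_eq
  obtain ⟨k, hk, hkn⟩ := (Nat.dvd_prime_pow hp.out).1 (Nat.gcd_dvd_right n (p ^ m))
  have hsub : ∀ x : G, x ^ n = 1 → x ^ (p ^ k) = 1 := fun x hx => by
    rw [← hkn, ← orderOf_dvd_iff_pow_eq_one]
    exact Nat.dvd_gcd (orderOf_dvd_of_pow_eq_one hx) (hm ▸ orderOf_dvd_natCard x)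
  refine le_trans (Finset.card_le_card (t := Finset.univ.filter fun x : G => x ^ (p ^ k) = 1)
    fun x hx => ?_) (le_trans ?_ ((key k).trans (Nat.le_of_dvd hn (hkn ▸ Nat.gcd_dvd_left _ _))))
  · simp only [Finset.mem_filter, Finset.mem_univ, true_and] at hx ⊢
    exact hsub x hx
  · rw [← Fintype.card_subtype, ← Nat.card_eq_fintype_card]
    exact Nat.card_le_card_of_injective
      (fun x : {x : G // x ^ (p ^ k) = 1} =>
        (⟨x.1, by rw [MonoidHom.mem_ker, powMonoidHom_apply]; exact x.2⟩ :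
          (powMonoidHom (p ^ k) : G →* G).ker))
      (fun a b e => Subtype.ext (congrArg Subtype.val e :))

end Abelian

section General

variable [Finite G] [hp : Fact p.Prime]

/-- A maximal normal abelian subgroup: cyclic, with generator `a`, and self-centralising. -/
theorem exists_cyclic_self_centralizing (hG : IsPGroup p G) (hu : HasUniqueOrderP G p) :
    ∃ a : G, (Subgroup.zpowers a).Normal ∧ ∀ c, Commute c a → c ∈ Subgroup.zpowers a := by
  classical
  have := hG.isNilpotent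
  obtain ⟨A, ⟨hN, hA⟩, hmax⟩ := (Set.toFinite {A : Subgroup G | A.Normal ∧
    IsMulCommutative A}).exists_maximal ⟨⊥, inferInstance, inferInstance⟩
  have hc := CfsgLib.Solvable.centralizer_eq_of_maximal_abelian_normal (N := A)
    (fun M hM hMc hle => le_antisymm (hmax ⟨hM, hMc⟩ hle) hle)
  have hcyc : IsCyclic A := isCyclic_of_comm (hG.to_subgroup A) (hu.subgroup A)
    fun x y => mul_comm' x y
  obtain ⟨a, ha⟩ := (Subgroup.isCyclic_iff_exists_zpowers_eq_top A).1 hcyc
  subst ha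
  refine ⟨a, hN, fun c hca => ?_⟩
  rw [← hc, Subgroup.mem_centralizer_iff]
  intro x hx
  obtain ⟨i, rfl⟩ := Subgroup.mem_zpowers_iff.1 hx
  exact ((hca.zpow_right i).eq).symm

omit [Finite G] in
theorem conj_zpow_eq {a x : G} {r : ℤ} (h : x * a * x⁻¹ = a ^ r) (j : ℤ) :
    x * a ^ j = a ^ (r * j) * x := by
  rw [zpow_mul, ← h, conj_zpow, inv_mul_cancel_right]

omit [Finite G] in
theorem mul_pow_eq {a x : G} {r : ℤ} (h : x * a * x⁻¹ = a ^ r) (j : ℤ) (n : ℕ) :
    (a ^ j * x) ^ n = a ^ (j * ∑ l ∈ Finset.range n, r ^ l) * x ^ n := by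
  induction n with
  | zero => simp
  | succ n ih =>
    have hsum : j + r * (j * ∑ l ∈ Finset.range n, r ^ l) =
        j * ∑ l ∈ Finset.range (n + 1), r ^ l := by
      rw [Finset.sum_range_succ', mul_add, pow_zero, mul_one]
      simp only [pow_succ, Finset.mul_sum]
      rw [add_comm]
      congr 1
      exact Finset.sum_congr rfl fun l _ => by ring
    rw [pow_succ', ih, mul_assoc, ← mul_assoc x, conj_zpow_eq h, mul_assoc, ← mul_assoc,
      ← mul_assoc, ← zpow_add, hsum, mul_assoc, ← pow_succ']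

variable {a x : G} {r k : ℤ}

/-- No element outside `⟨a⟩` whose `p`-th power lies inside can be made of order `p` in its
coset; the congruence is therefore unsolvable. -/
theorem not_dvd_sum (hu : HasUniqueOrderP G p) (hd : p ∣ orderOf a) (hr : x * a * x⁻¹ = a ^ r)
    (hx : x ∉ Subgroup.zpowers a) (hk : x ^ p = a ^ k) (j : ℤ) :
    ¬ (orderOf a : ℤ) ∣ j * (∑ l ∈ Finset.range p, r ^ l) + k := by
  intro h
  have h1 : (a ^ j * x) ^ p = 1 := by
    rw [mul_pow_eq hr, hk, ← zpow_add]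
    exact orderOf_dvd_iff_zpow_eq_one.1 h
  have hane : orderOf a ≠ 0 := orderOf_pos a |>.ne'
  obtain ⟨m, hm⟩ := hd
  have hy : (a ^ m) ^ p = 1 := by rw [← pow_mul, mul_comm m p, ← hm, pow_orderOf_eq_one]
  have hy1 : a ^ m ≠ 1 := by
    intro e
    have hm0 : m ≠ 0 := fun e0 => hane (by rw [hm, e0, mul_zero])
    have := Nat.le_of_dvd (Nat.pos_of_ne_zero hm0) (orderOf_dvd_of_pow_eq_one e)
    rw [hm] at this
    have h2 := hp.out.two_le
    nlinarith [Nat.pos_of_ne_zero hm0]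
  have := hu _ _ h1 hy hy1
  have hmem : a ^ j * x ∈ Subgroup.zpowers a :=
    (Subgroup.zpowers_le.2 (Subgroup.pow_mem _ (Subgroup.mem_zpowers a) m)) this
  exact hx ((Subgroup.mul_mem_cancel_left _ (Subgroup.zpow_mem _ (Subgroup.mem_zpowers a) j)).1 hmem)

omit [Finite G] in
/-- The two basic congruences for `x ^ p = a ^ k`. -/
theorem congr_facts {n : ℕ} (hn : orderOf a = p ^ n)
    (hC : ∀ c, Commute c a → c ∈ Subgroup.zpowers a) (hr : x * a * x⁻¹ = a ^ r)
    (hx : x ∉ Subgroup.zpowers a) (hk : x ^ p = a ^ k) :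
    (p : ℤ) ∣ k ∧ (orderOf a : ℤ) ∣ r ^ p - 1 ∧ (orderOf a : ℤ) ∣ k * (r - 1) := by
  have hxa : ¬ Commute x a := fun h => hx (hC x h)
  refine ⟨?_, ?_, ?_⟩
  · by_contra hpk
    apply hxa
    obtain ⟨u, v, huv⟩ : IsCoprime k (orderOf a : ℤ) := by
      rw [hn, Nat.cast_pow]
      exact ((Nat.prime_iff_prime_int.1 hp.out).coprime_iff_not_dvd.2 hpk).symm.pow_right
    have : a = (x ^ p) ^ u := by
      rw [hk, ← zpow_mul]
      conv_lhs => rw [← zpow_one a, ← huv, zpow_add, mul_comm u k, mul_comm v, zpow_mul a _ v]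
      rw [zpow_natCast, pow_orderOf_eq_one, one_zpow, mul_one]
    rw [this]
    exact ((Commute.refl x).pow_right p).zpow_right u
  · have hiter : ∀ i : ℕ, x ^ i * a = a ^ (r ^ i) * x ^ i := by
      intro i
      induction i with
      | zero => simp
      | succ i ih =>
        rw [pow_succ', mul_assoc, ih, ← mul_assoc, conj_zpow_eq hr, ← pow_succ' r, mul_assoc,
          ← pow_succ']
    have h1 := hiter p
    rw [hk] at h1
    have h2 : a ^ (k + 1) = a ^ (r ^ p + k) := by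
      rw [zpow_add, zpow_one, h1, ← zpow_add]
    have h3 := zpow_eq_zpow_iff_modEq.1 h2
    rw [Int.modEq_iff_dvd] at h3
    convert h3 using 1
    ring
  · have h1 : x * a ^ k = a ^ k * x := by rw [← hk, ← pow_succ', ← pow_succ]
    rw [conj_zpow_eq hr] at h1
    have h2 := zpow_eq_zpow_iff_modEq.1 (mul_right_cancel h1)
    rw [Int.modEq_iff_dvd] at h2
    rwa [← dvd_neg, show -(k * (r - 1)) = k - r * k by ring]

/-- For odd `p` there is no element outside. -/
theorem false_of_odd {n : ℕ} (hn : orderOf a = p ^ n) (hn0 : n ≠ 0) (hu : HasUniqueOrderP G p)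
    (hC : ∀ c, Commute c a → c ∈ Subgroup.zpowers a) (hr : x * a * x⁻¹ = a ^ r)
    (hx : x ∉ Subgroup.zpowers a) (hk : x ^ p = a ^ k) (hp2 : p ≠ 2) : False := by
  obtain ⟨hpk, hrp, -⟩ := congr_facts hn hC hr hx hk
  have hpd : p ∣ orderOf a := hn ▸ dvd_pow_self p hn0
  have hr1 : (p : ℤ) ∣ r - 1 := by
    rw [← ZMod.intCast_zmod_eq_zero_iff_dvd]
    have h0 : ((r ^ p - 1 : ℤ) : ZMod p) = 0 := by
      rw [ZMod.intCast_zmod_eq_zero_iff_dvd]
      exact (Int.natCast_dvd_natCast.2 hpd).trans hrp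
    push_cast at h0 ⊢
    rwa [ZMod.pow_card] at h0
  obtain ⟨t, ht⟩ := hr1
  have hpow : ∀ l : ℕ, (p : ℤ) ^ 2 ∣ r ^ l - (1 + l * (p * t)) := by
    intro l
    induction l with
    | zero => simp
    | succ l ih =>
      obtain ⟨c, hc⟩ := ih
      refine ⟨c * r + l * t * t, ?_⟩
      have hr' : r = 1 + p * t := by linear_combination ht
      rw [pow_succ]
      push_cast
      linear_combination r * hc + (1 + (l : ℤ) * (p * t)) * hr'
  obtain ⟨h, hh⟩ : ∃ h : ℕ, p = 2 * h + 1 := hp.out.eq_two_or_odd'.resolve_left hp2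
  obtain ⟨c, hc⟩ : (p : ℤ) ^ 2 ∣ (∑ l ∈ Finset.range p, r ^ l) - p := by
    have h1 : (p : ℤ) ^ 2 ∣ ∑ l ∈ Finset.range p, (r ^ l - (1 + l * (p * t))) :=
      Finset.dvd_sum fun l _ => hpow l
    have h2 : (∑ l ∈ Finset.range p, (l : ℤ)) = p * h := by
      have h3 : (∑ l ∈ Finset.range p, l) * 2 = p * (p - 1) := Finset.sum_range_id_mul_two p
      have h4 : (∑ l ∈ Finset.range p, l) * 2 = p * h * 2 := by
        rw [h3, hh, Nat.add_sub_cancel]; ring
      rw [← Nat.cast_sum, Nat.eq_of_mul_eq_mul_right two_pos h4, Nat.cast_mul]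
    rw [Finset.sum_sub_distrib, Finset.sum_add_distrib, ← Finset.sum_mul, h2] at h1
    simp only [Finset.sum_const, Finset.card_range, nsmul_eq_mul, mul_one] at h1
    have h5 : (∑ l ∈ Finset.range p, r ^ l) - p =
        (∑ l ∈ Finset.range p, r ^ l - ((p : ℤ) + p * h * (p * t))) + (p : ℤ) ^ 2 * (h * t) := by
      ring
    rw [h5]
    exact dvd_add h1 (dvd_mul_right _ _)
  obtain ⟨k', hk'⟩ := hpk
  have hcop : IsCoprime ((1 : ℤ) + p * c) ((p : ℤ) ^ n) := by
    apply IsCoprime.pow_right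
    exact ⟨1, -c, by ring⟩
  obtain ⟨u, v, huv⟩ := hcop
  apply not_dvd_sum hu hpd hr hx hk (-k' * u)
  rw [hn, Nat.cast_pow]
  refine ⟨p * k' * v, ?_⟩
  linear_combination (-k' * u) * hc + hk' - (p : ℤ) * k' * huv

/-- For `p = 2` the action is inversion and the square is the involution. -/
theorem two_case {n : ℕ} (hn : orderOf a = 2 ^ n) (hn0 : n ≠ 0) (hp2 : p = 2)
    (hu : HasUniqueOrderP G p)
    (hC : ∀ c, Commute c a → c ∈ Subgroup.zpowers a) (hr : x * a * x⁻¹ = a ^ r)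
    (hx : x ∉ Subgroup.zpowers a) (hk : x ^ p = a ^ k) :
    2 ≤ n ∧ (2 : ℤ) ^ n ∣ r + 1 ∧ (2 : ℤ) ^ (n - 1) ∣ k ∧ ¬ (2 : ℤ) ^ n ∣ k := by
  subst hp2
  obtain ⟨hpk, hrp, hkr⟩ := congr_facts hn hC hr hx hk
  have hd : (orderOf a : ℤ) = 2 ^ n := by rw [hn]; norm_num
  rw [hd] at hrp hkr
  have hpd : 2 ∣ orderOf a := hn ▸ dvd_pow_self 2 hn0
  have hns : ∀ j : ℤ, ¬ (2 : ℤ) ^ n ∣ j * (1 + r) + k := by
    intro j h
    apply not_dvd_sum hu hpd hr hx hk j
    rwa [hd, Finset.sum_range_succ, Finset.sum_range_one, pow_zero, pow_one]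
  have hr1 : ¬ (2 : ℤ) ^ n ∣ r - 1 := by
    intro h
    apply hx
    apply hC
    have : a ^ r = a ^ (1 : ℤ) := by
      rw [zpow_eq_zpow_iff_modEq, hd, Int.modEq_iff_dvd, ← dvd_neg, neg_sub]
      exact h
    rw [this, zpow_one, mul_inv_eq_iff_eq_mul] at hr
    exact hr
  obtain ⟨k', hk'⟩ := hpk
  push_cast at hk'
  obtain ⟨s, hs⟩ : ∃ s : ℤ, r = 2 * s + 1 := by
    rcases Int.even_or_odd' r with ⟨s, hs | hs⟩
    · exfalso
      obtain ⟨c, hc⟩ := (dvd_pow_self (2 : ℤ) hn0).trans hrp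
      rw [hs, mul_pow, ] at hc
      omega
    · exact ⟨s, hs⟩
  rcases Int.even_or_odd' s with ⟨t, ht | ht⟩
  · exfalso
    have hcop : IsCoprime (1 + 2 * t) ((2 : ℤ) ^ n) :=
      IsCoprime.pow_right ⟨1, -t, by ring⟩
    obtain ⟨u, v, huv⟩ := hcop
    apply hns (-k' * u)
    refine ⟨2 * k' * v, ?_⟩
    subst hs ht
    linear_combination hk' - 2 * k' * huv
  have hn2 : 2 ≤ n := by
    by_contra h
    apply hr1
    obtain rfl : n = 1 := by omega
    exact ⟨s, by rw [hs, pow_one]; ring⟩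
  have h2 : n = n - 1 + 1 := by omega
  have hk2 : (2 : ℤ) ^ (n - 1) ∣ k := by
    have hcop : IsCoprime ((2 : ℤ) ^ (n - 1)) s :=
      IsCoprime.pow_left ⟨-t, 1, by rw [ht]; ring⟩
    refine hcop.dvd_of_dvd_mul_right ?_
    have : (2 : ℤ) * 2 ^ (n - 1) ∣ 2 * (k * s) := by
      rw [← pow_succ', ← h2]
      rwa [hs, show k * (2 * s + 1 - 1) = 2 * (k * s) by ring] at hkr
    exact (mul_dvd_mul_iff_left two_ne_zero).1 this
  refine ⟨hn2, ?_, hk2, fun h => hns 0 (by simpa using h)⟩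
  by_contra hrn
  obtain ⟨i, hi, hgi⟩ := (Nat.dvd_prime_pow Nat.prime_two).1
    ((Int.natCast_dvd_natCast (m := Int.gcd (r + 1) (2 ^ n)) (n := 2 ^ n)).1
      (by rw [Nat.cast_pow]; exact Int.gcd_dvd_right _ _))
  have hin : i ≤ n - 1 := by
    rcases eq_or_lt_of_le hi with rfl | h
    · exfalso
      apply hrn
      have := Int.gcd_dvd_left (r + 1) ((2 : ℤ) ^ i)
      rw [hgi] at this
      exact_mod_cast this
    · omega
  obtain ⟨w, hw⟩ : (2 : ℤ) ^ i ∣ k := (pow_dvd_pow 2 hin).trans hk2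
  have hbez := Int.gcd_eq_gcd_ab (r + 1) (2 ^ n)
  rw [hgi] at hbez
  push_cast at hbez
  apply hns (-w * Int.gcdA (r + 1) (2 ^ n))
  refine ⟨w * Int.gcdB (r + 1) (2 ^ n), ?_⟩
  linear_combination hw + w * hbez

omit [Finite G] hp in
theorem exists_conj_exponent (hN : (Subgroup.zpowers a).Normal) (x : G) :
    ∃ r : ℤ, x * a * x⁻¹ = a ^ r := by
  obtain ⟨r, hr⟩ := Subgroup.mem_zpowers_iff.1 (hN.conj_mem a (Subgroup.mem_zpowers a) x)
  exact ⟨r, hr.symm⟩

omit [Finite G] hp in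
theorem exists_pow_mem {A : Subgroup G} (hG : IsPGroup p G) {x : G} (hx : x ∉ A) :
    ∃ y : G, y ∉ A ∧ y ^ p ∈ A ∧ ∃ m : ℕ, y = x ^ m := by
  classical
  obtain ⟨m, hm⟩ := hG x
  have hex : ∃ m, x ^ p ^ m ∈ A := ⟨m, hm ▸ A.one_mem⟩
  obtain ⟨m, hm'⟩ : ∃ m, Nat.find hex = m + 1 := by
    refine Nat.exists_eq_succ_of_ne_zero fun h0 => hx ?_
    have := Nat.find_spec hex
    rwa [h0, pow_zero, pow_one] at this
  refine ⟨x ^ p ^ m, fun h => Nat.find_min hex (by omega) h, ?_, p ^ m, rfl⟩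
  rw [← pow_mul, ← pow_succ, ← hm']
  exact Nat.find_spec hex

/-- A `p`-group with a unique subgroup of order `p` is cyclic or generalised quaternion. -/
theorem isCyclic_or_quaternion (hG : IsPGroup p G) (hu : HasUniqueOrderP G p) :
    IsCyclic G ∨ (p = 2 ∧ ∃ m : ℕ, 1 ≤ m ∧ Nonempty (G ≃* QuaternionGroup (2 ^ m))) := by
  classical
  obtain ⟨a, hN, hC⟩ := exists_cyclic_self_centralizing hG hu
  by_cases htop : Subgroup.zpowers a = ⊤
  · exact Or.inl ⟨⟨a, fun g => Subgroup.mem_zpowers_iff.1 (htop.symm ▸ Subgroup.mem_top g)⟩⟩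
  obtain ⟨x₁, hx₁⟩ : ∃ x, x ∉ Subgroup.zpowers a := by
    by_contra h
    push Not at h
    exact htop ((Subgroup.eq_top_iff' _).2 h)
  obtain ⟨x, hx, hxp, -⟩ := exists_pow_mem hG hx₁
  obtain ⟨n, hn⟩ := IsPGroup.iff_orderOf.1 hG a
  have hn0 : n ≠ 0 := by
    rintro rfl
    have ha1 : a = 1 := orderOf_eq_one_iff.1 (by simpa using hn)
    exact hx (hC x (ha1 ▸ Commute.one_right x))
  obtain ⟨k, hk⟩ := Subgroup.mem_zpowers_iff.1 hxp
  obtain ⟨r, hr⟩ := exists_conj_exponent hN x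
  have hp2 : p = 2 := by
    by_contra h
    exact false_of_odd hn hn0 hu hC hr hx hk.symm h
  refine Or.inr ⟨hp2, ?_⟩
  subst hp2
  obtain ⟨hn2, -, hk1, hk2⟩ := two_case hn hn0 rfl hu hC hr hx hk.symm
  have hinv : ∀ y, y ∉ Subgroup.zpowers a → y ^ 2 ∈ Subgroup.zpowers a → y * a * y⁻¹ = a⁻¹ := by
    intro y hy hy2
    obtain ⟨k', hk'⟩ := Subgroup.mem_zpowers_iff.1 hy2
    obtain ⟨r', hr'⟩ := exists_conj_exponent hN y
    obtain ⟨-, hr1, -, -⟩ := two_case hn hn0 rfl hu hC hr' hy hk'.symm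
    rw [hr', ← zpow_neg_one, zpow_eq_zpow_iff_modEq, hn, Int.modEq_iff_dvd, ← dvd_neg,
      show -(-1 - r') = r' + 1 by ring]
    exact_mod_cast hr1
  have hxa := hinv x hx hxp
  have hcover : ∀ g : G, g ∈ Subgroup.zpowers a ∨ x⁻¹ * g ∈ Subgroup.zpowers a := by
    intro g
    refine or_iff_not_imp_left.2 fun hg => ?_
    have hsq : g ^ 2 ∈ Subgroup.zpowers a := by
      by_contra hg2
      obtain ⟨y, hy, hy2, m, rfl⟩ := exists_pow_mem hG hg2
      -- the least power of `g` outside whose square is inside is a square itself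
      obtain ⟨c, hc⟩ := exists_conj_exponent hN (g ^ m)
      have hy' := hinv _ hy hy2
      rw [← pow_mul, mul_comm, pow_mul, sq, _root_.mul_inv_rev, ← mul_assoc,
        mul_assoc (g ^ m) (g ^ m), mul_assoc (g ^ m), hc, ← conj_zpow, hc, ← zpow_mul,
        ← zpow_neg_one, zpow_eq_zpow_iff_modEq, hn, Int.modEq_iff_dvd] at hy'
      have h4 : ((4 : ℕ) : ℤ) ∣ -1 - c * c := by
        refine dvd_trans ?_ hy'
        push_cast
        exact (pow_dvd_pow (2 : ℤ) hn2)
      rw [← ZMod.intCast_zmod_eq_zero_iff_dvd (-1 - c * c) 4] at h4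
      push_cast at h4
      revert h4
      generalize (c : ZMod 4) = z
      revert z
      decide
    have hg' := hinv g hg hsq
    apply hC
    have hxi : x⁻¹ * a⁻¹ * x = a := by
      rw [← hxa]; group
    rw [commute_iff_eq, ← mul_inv_eq_iff_eq_mul, _root_.mul_inv_rev, inv_inv, mul_assoc x⁻¹ g,
      ← mul_assoc, mul_assoc x⁻¹ (g * a), hg', hxi]
  obtain ⟨n', rfl⟩ : ∃ n', n = n' + 1 := ⟨n - 1, by omega⟩
  refine ⟨n', by omega, ?_⟩
  have hord : orderOf a = 2 * 2 ^ n' := by rw [hn, pow_succ']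
  have hxx : x * x = a ^ ((2 ^ n' : ℕ) : ℤ) := by
    rw [← sq, ← hk, zpow_eq_zpow_iff_modEq, hn, Int.modEq_iff_dvd]
    rw [Nat.add_sub_cancel] at hk1
    obtain ⟨w, hw⟩ := hk1
    push_cast
    rcases Int.even_or_odd' w with ⟨e, he | he⟩
    · exact absurd ⟨e, by rw [hw, he, pow_succ]; ring⟩ hk2
    · exact ⟨-e, by rw [hw, he, pow_succ]; ring⟩
  have hne0 : NeZero (2 * 2 ^ n') := ⟨by positivity⟩
  have hval : ∀ i j : ℤ, (i : ZMod (2 * 2 ^ n')) = j → a ^ i = a ^ j := fun i j h => by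
    rw [zpow_eq_zpow_iff_modEq, hord]
    exact (ZMod.intCast_eq_intCast_iff i j _).1 h
  let f : QuaternionGroup (2 ^ n') → G := fun q =>
    match q with
    | .a i => a ^ (i.val : ℤ)
    | .xa i => x * a ^ (i.val : ℤ)
  have hxinv : ∀ j : ℤ, a ^ j * x = x * a ^ (-j) := by
    intro j
    rw [conj_zpow_eq (r := -1) (by rw [zpow_neg_one]; exact hxa)]
    congr 2
    ring
  let φ : QuaternionGroup (2 ^ n') →* G := MonoidHom.mk' f (by
    rintro (i | i) (j | j)
    · change a ^ ((i + j).val : ℤ) = _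
      simp only [f, ← zpow_add]
      exact hval _ _ (by push_cast; simp)
    · change x * a ^ ((j - i).val : ℤ) = _
      simp only [f]
      rw [← mul_assoc, hxinv, mul_assoc, ← zpow_add]
      exact congrArg (x * ·) (hval _ _ (by push_cast; simp; ring))
    · change x * a ^ ((i + j).val : ℤ) = _
      simp only [f]
      rw [mul_assoc, ← zpow_add]
      exact congrArg (x * ·) (hval _ _ (by push_cast; simp))
    · change a ^ ((((2 ^ n' : ℕ) : ZMod (2 * 2 ^ n')) + j - i).val : ℤ) = _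
      simp only [f]
      rw [mul_assoc, ← mul_assoc (a ^ _), hxinv, mul_assoc, ← zpow_add, ← mul_assoc, hxx,
        ← zpow_add]
      exact hval _ _ (by push_cast; simp; ring))
  have hsurj : Function.Surjective φ := by
    have ha : ∀ j : ℤ, a ^ ((j : ZMod (2 * 2 ^ n')).val : ℤ) = a ^ j := fun j =>
      hval _ _ (by simp)
    intro g
    rcases hcover g with h | h <;> obtain ⟨j, hj⟩ := Subgroup.mem_zpowers_iff.1 h
    · exact ⟨.a (j : ZMod (2 * 2 ^ n')), (ha j).trans hj⟩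
    · refine ⟨.xa (j : ZMod (2 * 2 ^ n')), ?_⟩
      change x * a ^ ((j : ZMod (2 * 2 ^ n')).val : ℤ) = g
      rw [ha, hj, mul_inv_cancel_left]
  refine ⟨(MulEquiv.ofBijective φ ⟨?_, hsurj⟩).symm⟩
  rw [injective_iff_map_eq_one]
  rintro (i | i) hi
  · change a ^ (i.val : ℤ) = 1 at hi
    rw [zpow_natCast] at hi
    have := orderOf_dvd_of_pow_eq_one hi
    rw [hord] at this
    have h0 : i.val = 0 := Nat.eq_zero_of_dvd_of_lt this (ZMod.val_lt i)
    rw [ZMod.val_eq_zero] at h0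
    rw [h0]; rfl
  · exfalso
    apply hx
    change x * a ^ (i.val : ℤ) = 1 at hi
    rw [eq_inv_of_mul_eq_one_left hi, ← zpow_neg]
    exact Subgroup.zpow_mem _ (Subgroup.mem_zpowers a) _

end General

end CfsgLib.TwoGroupsQ
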